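import Groth.Agent.Lib.AmpleRes8.PerfTest
import Groth.Agent.Lib.DGen9.QCohAdj
import Groth.Agent.Lib.DPerf.Coprod
import Groth.Prelude.Def_Dual3

/-!
The right adjoint of `Rf_*` on `D_QCoh` preserves coproducts when `Rf_*` preserves perfect objects.
-/

set_option autoImplicit false
set_option linter.unusedSectionVars false
set_option linter.style.haveILetI false
set_option backward.isDefEq.respectTransparency false
set_option backward.isDefEq.respectTransparency.types false
set_option maxHeartbeats 800000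

universe u

open CategoryTheory CategoryTheory.Limits AlgebraicGeometry Pretriangulated

attribute [local instance] HasDerivedCategory.standard

namespace Groth.Agent.Dual8

open DPush

variable {X Y : Scheme.{u}} {f : X ⟶ Y} [DCoh.HasRpush f] {hf : DCoh.RpushPreservesQCoh f}
  {a : DCoh.DQCoh Y ⥤ DCoh.DQCoh X} (adj : DCoh.RpushQ f hf ⊣ a)

theorem additive_rpush : (DCoh.Rpush f).Additive := by
  haveI : (DCoh.Rpush f).IsRightAdjoint := (DMon9.adjLP f).isRightAdjoint
  haveI : PreservesLimitsOfShape (Discrete WalkingPair) (DCoh.Rpush f) := inferInstance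
  haveI : (DCoh.Rpush f).PreservesZeroMorphisms := Functor.preservesZeroMorphisms_of_isRightAdjoint _
  haveI := preservesBinaryBiproducts_of_preservesBinaryProducts (DCoh.Rpush f)
  exact Functor.additive_of_preservesBinaryBiproducts _

theorem additive_a (adj : DCoh.RpushQ f hf ⊣ a) : a.Additive := by
  haveI := additive_rpush (f := f)
  haveI : (DCoh.RpushQ f hf).Additive :=
    { map_add := fun {A B u v} => ObjectProperty.hom_ext _ ((DCoh.Rpush f).map_add) }
  exact Adjunction.right_adjoint_additive adj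

variable [CompactSpace X] [QuasiSeparatedSpace X] [CompactSpace Y] [QuasiSeparatedSpace Y]

include adj in
/-- Right adjoints commute with a family of coproducts. -/
theorem isIso_comparison (hperf : ∀ P : DCoh.D X, DCoh.IsPerfect P → DCoh.IsPerfect ((DCoh.Rpush f).obj P))
    {J : Type u} (K : J → DCoh.DQCoh Y) [HasCoproduct fun j => (K j).obj] [HasCoproduct fun j => (a.obj (K j)).obj] :
    IsIso (Sigma.desc fun j => (a.map (ObjectProperty.homMk (Sigma.ι (fun j => (K j).obj) j) :
      K j ⟶ (⟨∐ fun j => (K j).obj, DPerf.isQCohD_sigma _ fun j => (K j).property⟩ : DCoh.DQCoh Y))).hom :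
      (∐ fun j => (a.obj (K j)).obj) ⟶
        (a.obj ⟨∐ fun j => (K j).obj, DPerf.isQCohD_sigma _ fun j => (K j).property⟩).obj) := by
  classical
  haveI := additive_a adj
  let Kd := fun j => (K j).obj
  let Ad := fun j => (a.obj (K j)).obj
  let S : DCoh.DQCoh Y := ⟨∐ Kd, DPerf.isQCohD_sigma _ fun j => (K j).property⟩
  let ι' : ∀ j, K j ⟶ S := fun j => ObjectProperty.homMk (Sigma.ι Kd j)
  let π' : ∀ j, S ⟶ K j := fun j => ObjectProperty.homMk (Sigma.π Kd j)
  let c : (∐ Ad) ⟶ (a.obj S).obj := Sigma.desc fun j => (a.map (ι' j)).hom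
  have hc : ∀ j, c ≫ (a.map (π' j)).hom = Sigma.π Ad j := fun j => Sigma.hom_ext _ _ fun i => by
    simp only [c, Sigma.ι_desc_assoc]
    rw [← ObjectProperty.FullSubcategory.comp_hom, ← a.map_comp]
    by_cases h : i = j
    · subst h
      rw [show ι' i ≫ π' i = 𝟙 (K i) from ObjectProperty.hom_ext _ (Sigma.ι_π_eq_id Kd i), a.map_id,
        Sigma.ι_π_eq_id]
      rfl
    · rw [show ι' i ≫ π' j = 0 from ObjectProperty.hom_ext _ (Sigma.ι_π_of_ne Kd h), Functor.map_zero,
        Sigma.ι_π_of_ne _ h]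
      rfl
  refine PerfTest8.isIso_of_bijective (DPerf.isQCohD_sigma _ fun j => (a.obj (K j)).property) (a.obj S).property c
    fun P hP => ⟨fun x y hxy => ?_, fun y => ?_⟩
  · have key : ∀ z : P ⟶ ∐ Ad, z ≫ c = 0 → z = 0 := fun z hz => by
      obtain ⟨s, hs⟩ := DGen9.qFin_of_isPerfect hP J Ad (fun j => (a.obj (K j)).property) z
      rw [← hs, finProj_eq_sum, Preadditive.comp_sum]
      refine Finset.sum_eq_zero fun j _ => ?_
      rw [← hc j, ← Category.assoc, ← Category.assoc, hz, zero_comp, zero_comp]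
    exact sub_eq_zero.1 (key _ (by rw [Preadditive.sub_comp, sub_eq_zero]; exact hxy))
  · let P' : DCoh.DQCoh X := ⟨P, DGen9.isQCohD_of_isPerfect hP⟩
    let y₀ : P' ⟶ a.obj S := ObjectProperty.homMk y
    let y' := (adj.homEquiv P' S).symm y₀
    obtain ⟨s, hs⟩ := DGen9.qFin_of_isPerfect (hperf P hP) J Kd (fun j => (K j).property) y'.hom
    have hy' : y' = y' ≫ ∑ j ∈ s, π' j ≫ ι' j := ObjectProperty.hom_ext _ (by
      refine hs.symm.trans ?_
      rw [finProj_eq_sum]
      exact congrArg (y'.hom ≫ ·) (map_sum ((DCoh.IsQCohD (X := Y)).ι.mapAddHom (X := S) (Y := S))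
        (fun j => π' j ≫ ι' j) s).symm)
    have hy : y₀ = y₀ ≫ a.map (∑ j ∈ s, π' j ≫ ι' j) := by
      have h2 := congrArg (adj.homEquiv P' S) hy'
      rwa [adj.homEquiv_naturality_right, Equiv.apply_symm_apply] at h2
    refine ⟨∑ j ∈ s, (y ≫ (a.map (π' j)).hom) ≫ Sigma.ι Ad j, ?_⟩
    refine Eq.trans ?_ (congrArg (fun t => t.hom) hy).symm
    show (∑ j ∈ s, (y ≫ (a.map (π' j)).hom) ≫ Sigma.ι Ad j) ≫ c = _
    rw [ObjectProperty.FullSubcategory.comp_hom, Functor.map_sum,
      show (∑ j ∈ s, a.map (π' j ≫ ι' j)).hom = ∑ j ∈ s, (a.map (π' j ≫ ι' j)).hom from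
        map_sum ((DCoh.IsQCohD (X := X)).ι.mapAddHom (X := a.obj S) (Y := a.obj S)) _ s,
      Preadditive.comp_sum, Preadditive.sum_comp]
    refine Finset.sum_congr rfl fun j _ => ?_
    simp [c, y₀]

include adj in
/-- The right adjoint preserves coproducts. -/
theorem preservesCoproducts (hperf : ∀ P : DCoh.D X, DCoh.IsPerfect P → DCoh.IsPerfect ((DCoh.Rpush f).obj P))
    (J : Type u) : PreservesColimitsOfShape (Discrete J) a := by
  suffices h : ∀ K : J → DCoh.DQCoh Y, PreservesColimit (Discrete.functor K) a from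
    ⟨fun {F} => haveI := h (F.obj ∘ Discrete.mk); preservesColimit_of_iso_diagram a Discrete.natIsoFunctor.symm⟩
  intro K
  let Kd := fun j => (K j).obj
  let Ad := fun j => (a.obj (K j)).obj
  haveI := hasCoproduct_D Kd
  haveI := hasCoproduct_D Ad
  let S : DCoh.DQCoh Y := ⟨∐ Kd, DPerf.isQCohD_sigma _ fun j => (K j).property⟩
  let c : Cofan K := Cofan.mk S fun j => ObjectProperty.homMk (Sigma.ι Kd j)
  have hc : IsColimit c := Cofan.IsColimit.mk _ (fun s => ObjectProperty.homMk (Sigma.desc fun j => (s.inj j).hom))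
    (fun s j => ObjectProperty.hom_ext _ (Sigma.ι_desc _ _))
    (fun s m hm => ObjectProperty.hom_ext _ (Sigma.hom_ext _ _ fun j => by
      rw [ObjectProperty.homMk_hom, Sigma.ι_desc]
      exact congrArg (fun t => t.hom) (hm j)))
  refine preservesColimit_of_preserves_colimit_cocone hc ((isColimitMapCoconeCofanMkEquiv a _ _).symm ?_)
  haveI := isIso_comparison adj hperf K
  let w : (∐ Ad) ⟶ (a.obj S).obj := Sigma.desc fun j => (a.map (c.inj j)).hom
  haveI : IsIso w := isIso_comparison adj hperf K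
  exact Cofan.IsColimit.mk _
    (fun s => ObjectProperty.homMk (inv w ≫ Sigma.desc fun j => (s.inj j).hom))
    (fun s j => ObjectProperty.hom_ext _ (by
      show (a.map (c.inj j)).hom ≫ inv w ≫ _ = _
      have e : Sigma.ι Ad j ≫ w = (a.map (c.inj j)).hom := Sigma.ι_desc _ _
      rw [← e, Category.assoc, IsIso.hom_inv_id_assoc, Sigma.ι_desc]))
    (fun s m hm => ObjectProperty.hom_ext _ (by
      rw [ObjectProperty.homMk_hom, IsIso.eq_inv_comp]
      refine Sigma.hom_ext _ _ fun j => ?_
      rw [Sigma.ι_desc, Sigma.ι_desc_assoc]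
      exact congrArg (fun t => t.hom) (hm j)))

end Groth.Agent.Dual8
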