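import Groth.Agent.Lib.Dual8.Tensor
import Groth.Agent.Lib.Dual8.Coprod
import Groth.Agent.Lib.DGen9.QCohAdj
import Groth.Agent.Lib.DMon9.LpullIso

/-!
`a ≅ Lf^*(-) ⊗ a(O)` when the right adjoint preserves coproducts.
-/

set_option autoImplicit false
set_option linter.unusedSectionVars false
set_option linter.style.haveILetI false
set_option backward.isDefEq.respectTransparency false
set_option backward.isDefEq.respectTransparency.types false
set_option maxHeartbeats 800000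

universe u

open CategoryTheory CategoryTheory.Limits MonoidalCategory AlgebraicGeometry Pretriangulated

attribute [local instance] HasDerivedCategory.standard

namespace Groth.Agent.Dual8

open DMon9

section Exact

variable {X Y : Scheme.{u}} (Φ : DCoh.D Y ⥤ DCoh.D X) [Φ.IsLeftAdjoint]

/-- Maps out of a fixed object into `Φ` are exact in the middle. -/
theorem exists_lift_mid (T : Triangle (DCoh.D Y)) (hT : T ∈ distTriang _) {P : DCoh.D X}
    (x : P ⟶ Φ.obj T.obj₂) (hx : x ≫ Φ.map T.mor₂ = 0) : ∃ w : P ⟶ Φ.obj T.obj₁, w ≫ Φ.map T.mor₁ = x := by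
  obtain ⟨C', q, δ', hT'⟩ := distinguished_cocone_triangle (Φ.map T.mor₁)
  obtain ⟨χ, hχ⟩ := homExact_of_isLeftAdjoint Φ T hT q (comp_distTriang_mor_zero₁₂ _ hT')
  obtain ⟨w, hw⟩ := Triangle.coyoneda_exact₂ _ hT' x (by
    show x ≫ q = 0
    rw [hχ, ← Category.assoc, hx, zero_comp])
  exact ⟨w, hw.symm⟩

end Exact

variable {X Y : Scheme.{u}} {f : X ⟶ Y} [DCoh.HasRpush f] {hf : DCoh.RpushPreservesQCoh f}
  [QuasiCompact f] [QuasiSeparated f]
  {a : DCoh.DQCoh Y ⥤ DCoh.DQCoh X} (adj : DCoh.RpushQ f hf ⊣ a) (O : DCoh.DQCoh Y) (eO : (O.obj : DM Y) ≅ 𝟙_ (DM Y))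

/-- The counit at `O`, into the unit. -/
noncomputable def eps' : (rM f).obj (a.obj O).obj ⟶ 𝟙_ (DM Y) := epsA adj O ≫ eO.hom

/-- `O ⊗ K ⟶ K`. -/
noncomputable def unitT (K : DCoh.DQCoh Y) : tq O K ⟶ K :=
  ObjectProperty.homMk (MonoidalCategory.whiskerRight (C := DM Y) eO.hom (K.obj : DM Y) ≫ (MonoidalCategory.leftUnitor (C := DM Y) K.obj).hom)

theorem isIso_unitT (K : DCoh.DQCoh Y) : IsIso (unitT O eO K) := by
  haveI : IsIso (unitT O eO K).hom :=
    inferInstanceAs (IsIso (MonoidalCategory.whiskerRight (C := DM Y) eO.hom (K.obj : DM Y) ≫ (MonoidalCategory.leftUnitor (C := DM Y) K.obj).hom))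
  exact ⟨ObjectProperty.homMk (inv (unitT O eO K).hom), ObjectProperty.hom_ext _ (IsIso.hom_inv_id _),
    ObjectProperty.hom_ext _ (IsIso.inv_hom_id _)⟩

/-- The transposed comparison. -/
noncomputable def cmpT (K : DCoh.DQCoh Y) : (DCoh.RpushQ f hf).obj (mq f (a.obj O) K) ⟶ K :=
  ObjectProperty.homMk (projInv (a.obj O) K ≫ eps' adj O eO ▷ (K.obj : DM Y) ≫ (MonoidalCategory.leftUnitor (C := DM Y) K.obj).hom)

/-- The comparison `a(O) ⊗ Lf^* K ⟶ a(K)`. -/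
noncomputable def cmp (K : DCoh.DQCoh Y) : mq f (a.obj O) K ⟶ a.obj K := adj.homEquiv _ _ (cmpT adj O eO K)

theorem cmp_natural {K K' : DCoh.DQCoh Y} (v : K ⟶ K') :
    (midF f (a.obj O).obj).map v.hom ≫ (cmp adj O eO K').hom = (cmp adj O eO K).hom ≫ (a.map v).hom := by
  let w : mq f (a.obj O) K ⟶ mq f (a.obj O) K' := ObjectProperty.homMk ((midF f (a.obj O).obj).map v.hom)
  have h : w ≫ cmp adj O eO K' = cmp adj O eO K ≫ a.map v := by
    rw [cmp, cmp, ← adj.homEquiv_naturality_left, ← adj.homEquiv_naturality_right]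
    congr 1
    apply ObjectProperty.hom_ext
    let E : DM X := (a.obj O).obj
    let vM : (K.obj : DM Y) ⟶ (K'.obj : DM Y) := v.hom
    have hn : (rM f).map (E ◁ (dPull f).map vM) ≫ projInv (a.obj O) K' = projInv (a.obj O) K ≫ (rM f).obj E ◁ vM := by
      haveI : IsIso (projApp (adjM f) E (K'.obj : DM Y)) := isIso_projT f (a.obj O).obj (a.obj O).property K'.obj K'.property
      rw [← cancel_mono (projApp (adjM f) E (K'.obj : DM Y)), Category.assoc, Category.assoc, projApp_natural,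
        (projInv_projApp (a.obj O) K').1]
      refine (Category.comp_id _).trans ?_
      rw [← Category.assoc, (projInv_projApp (a.obj O) K).1]
      exact (Category.id_comp _).symm
    show (rM f).map (E ◁ (dPull f).map vM) ≫ projInv (a.obj O) K' ≫ eps' adj O eO ▷ (K'.obj : DM Y) ≫
        (MonoidalCategory.leftUnitor (C := DM Y) K'.obj).hom =
      (projInv (a.obj O) K ≫ eps' adj O eO ▷ (K.obj : DM Y) ≫ (MonoidalCategory.leftUnitor (C := DM Y) K.obj).hom) ≫ vM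
    rw [reassoc_of% hn, whisker_exchange_assoc, leftUnitor_naturality]
    simp only [Category.assoc]
  exact congrArg (fun t => t.hom) h

theorem cmp_eq (K : DCoh.DQCoh Y) : cmp adj O eO K = tau adj O K ≫ a.map (unitT O eO K) := by
  rw [cmp, tau, ← adj.homEquiv_naturality_right]
  congr 1
  apply ObjectProperty.hom_ext
  show projInv (a.obj O) K ≫ _ = (projInv (a.obj O) K ≫ epsA adj O ▷ (K.obj : DM Y)) ≫
    MonoidalCategory.whiskerRight (C := DM Y) eO.hom (K.obj : DM Y) ≫ (MonoidalCategory.leftUnitor (C := DM Y) K.obj).hom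
  rw [eps', comp_whiskerRight, Category.assoc, Category.assoc]

/-- The good objects. -/
def Good (L : DCoh.D Y) : Prop := ∃ h : DCoh.IsQCohD L, IsIso (cmp adj O eO ⟨L, h⟩).hom

theorem good_iso {L L' : DCoh.D Y} (e : L ≅ L') (h : Good adj O eO L) : Good adj O eO L' := by
  obtain ⟨hq, hi⟩ := h
  let K : DCoh.DQCoh Y := ⟨L, hq⟩
  let K' : DCoh.DQCoh Y := ⟨L', DQC.isQCohD_of_iso e hq⟩
  let v : K ≅ K' := ObjectProperty.isoMk _ e
  refine ⟨K'.property, ?_⟩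
  have hn := cmp_natural adj O eO v.hom
  haveI : IsIso (a.map v.hom).hom := ((ObjectProperty.ι _).mapIso (a.mapIso v)).isIso_hom
  haveI : IsIso ((midF f (a.obj O).obj).map v.hom.hom) := ((midF f (a.obj O).obj).mapIso e).isIso_hom
  haveI := hi
  haveI : IsIso ((midF f (a.obj O).obj).map v.hom.hom ≫ (cmp adj O eO K').hom) := hn ▸ inferInstance
  exact IsIso.of_isIso_comp_left ((midF f (a.obj O).obj).map v.hom.hom) _

section Closure

variable [CompactSpace X] [QuasiSeparatedSpace X]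

theorem good_of_isPerfect (L : DCoh.D Y) (hL : DCoh.IsPerfect L) : Good adj O eO L := by
  refine ⟨DGen9.isQCohD_of_isPerfect hL, ?_⟩
  let K : DCoh.DQCoh Y := ⟨L, DGen9.isQCohD_of_isPerfect hL⟩
  haveI := isIso_tau_of_isPerfect adj O K hL
  haveI := isIso_unitT O eO K
  have e : cmp adj O eO K = tau adj O K ≫ a.map (unitT O eO K) := cmp_eq adj O eO K
  rw [show (cmp adj O eO ⟨L, DGen9.isQCohD_of_isPerfect hL⟩).hom = (tau adj O K).hom ≫ (a.map (unitT O eO K)).hom from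
    congrArg (fun t => t.hom) e]
  haveI : IsIso (a.map (unitT O eO K)).hom := ((ObjectProperty.ι _).mapIso (a.mapIso (asIso (unitT O eO K)))).isIso_hom
  infer_instance

theorem good_cone (T : Triangle (DCoh.D Y)) (hT : T ∈ distTriang _) (h₁ : Good adj O eO T.obj₁)
    (h₂ : Good adj O eO T.obj₂) (h₁' : Good adj O eO (T.obj₁⟦(1 : ℤ)⟧)) (h₂' : Good adj O eO (T.obj₂⟦(1 : ℤ)⟧)) :
    Good adj O eO T.obj₃ := by
  obtain ⟨q₁, i₁⟩ := h₁; obtain ⟨q₂, i₂⟩ := h₂; obtain ⟨q₁', i₁'⟩ := h₁'; obtain ⟨q₂', i₂'⟩ := h₂'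
  have q₃ : DCoh.IsQCohD T.obj₃ := DPush.isQCohD_obj₃ T hT q₁ q₂
  refine ⟨q₃, ?_⟩
  let Φ := midF f (a.obj O).obj
  let K₁ : DCoh.DQCoh Y := ⟨_, q₁⟩
  let K₂ : DCoh.DQCoh Y := ⟨_, q₂⟩
  let K₃ : DCoh.DQCoh Y := ⟨_, q₃⟩
  let K₁' : DCoh.DQCoh Y := ⟨_, q₁'⟩
  let K₂' : DCoh.DQCoh Y := ⟨_, q₂'⟩
  let u₁ : K₁ ⟶ K₂ := ObjectProperty.homMk T.mor₁
  let u₂ : K₂ ⟶ K₃ := ObjectProperty.homMk T.mor₂
  let u₃ : K₃ ⟶ K₁' := ObjectProperty.homMk T.mor₃
  let u₄ : K₁' ⟶ K₂' := ObjectProperty.homMk (T.mor₁⟦(1 : ℤ)⟧')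
  let c := fun K => (cmp adj O eO K).hom
  haveI : IsIso (c K₁) := i₁
  haveI : IsIso (c K₂) := i₂
  haveI : IsIso (c K₁') := i₁'
  haveI : IsIso (c K₂') := i₂'
  haveI : Φ.Additive := by
    haveI : Φ.PreservesZeroMorphisms := Functor.preservesZeroMorphisms_of_isLeftAdjoint Φ
    haveI := preservesBinaryBiproducts_of_preservesBinaryCoproducts Φ
    exact Functor.additive_of_preservesBinaryBiproducts Φ
  refine PerfTest8.isIso_of_bijective (mq f (a.obj O) K₃).property (a.obj K₃).property _ fun P hP => ?_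
  let Pq : DCoh.DQCoh X := ⟨P, DGen9.isQCohD_of_isPerfect hP⟩
  let tr := fun (K : DCoh.DQCoh Y) (x : P ⟶ (a.obj K).obj) =>
    ((adj.homEquiv Pq K).symm (ObjectProperty.homMk x)).hom
  have trn : ∀ {K K' : DCoh.DQCoh Y} (v : K ⟶ K') (x : P ⟶ (a.obj K).obj),
      tr K' (x ≫ (a.map v).hom) = tr K x ≫ v.hom := fun {K K'} v x =>
    congrArg (fun t => t.hom) (adj.homEquiv_naturality_right_symm (X := Pq) (ObjectProperty.homMk x) v)
  have trinj : ∀ K, Function.Injective (tr K) := fun K x y h =>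
    congrArg (fun t => t.hom) ((adj.homEquiv Pq K).symm.injective (ObjectProperty.hom_ext _ h))
  have trz : ∀ K, tr K 0 = 0 := fun K => by
    haveI := additive_a adj
    haveI := additive_rpush (f := f)
    haveI : (DCoh.RpushQ f hf).Additive := { map_add := fun {A B u v} => ObjectProperty.hom_ext _ ((DCoh.Rpush f).map_add) }
    show ((adj.homEquiv Pq K).symm 0).hom = 0
    rw [Adjunction.homEquiv_counit, Functor.map_zero, zero_comp]
    rfl
  have nat : ∀ {K K' : DCoh.DQCoh Y} (v : K ⟶ K') (x : P ⟶ (mq f (a.obj O) K).obj),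
      (x ≫ Φ.map v.hom) ≫ c K' = (x ≫ c K) ≫ (a.map v).hom := fun v x => by
    rw [Category.assoc, cmp_natural, ← Category.assoc]
  refine ⟨fun x y hxy => sub_eq_zero.1 ?_, fun y => ?_⟩
  · -- injectivity
    let z := x - y
    have hz : z ≫ c K₃ = 0 := by
      show (x - y) ≫ c K₃ = 0
      rw [Preadditive.sub_comp, sub_eq_zero]
      exact hxy
    have h3 : z ≫ Φ.map u₃.hom = 0 := by
      rw [← cancel_mono (c K₁'), nat u₃ z, hz, zero_comp, zero_comp]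
    obtain ⟨w, hw⟩ := exists_lift_mid Φ T.rotate (rot_of_distTriang _ hT) z h3
    change w ≫ Φ.map T.mor₂ = z at hw
    have hw0 : tr K₂ (w ≫ c K₂) ≫ T.mor₂ = 0 := by
      refine (trn u₂ _).symm.trans ?_
      rw [← nat u₂ w, show w ≫ Φ.map u₂.hom = z from hw, hz, trz]
    obtain ⟨s, hs⟩ := Triangle.coyoneda_exact₂ _ hT _ hw0
    obtain ⟨s', hs'⟩ : ∃ s' : P ⟶ (a.obj K₁).obj, tr K₁ s' = s :=
      ⟨(adj.homEquiv Pq K₁ (ObjectProperty.homMk s)).hom,
        congrArg (fun t => t.hom) ((adj.homEquiv Pq K₁).symm_apply_apply (ObjectProperty.homMk s))⟩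
    have e : w = (s' ≫ inv (c K₁)) ≫ Φ.map u₁.hom := by
      rw [← cancel_mono (c K₂), nat u₁ (s' ≫ inv (c K₁))]
      refine trinj K₂ ?_
      rw [Category.assoc s', IsIso.inv_hom_id, Category.comp_id, trn u₁, hs']
      exact hs
    show z = 0
    rw [← hw, e, Category.assoc, ← Functor.map_comp, show u₁.hom ≫ T.mor₂ = 0 from comp_distTriang_mor_zero₁₂ _ hT,
      Functor.map_zero, comp_zero]
  · -- surjectivity
    let b := (y ≫ (a.map u₃).hom) ≫ inv (c K₁')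
    have hb : b ≫ Φ.map u₄.hom = 0 := by
      rw [← cancel_mono (c K₂'), zero_comp, nat u₄ b]
      refine trinj K₂' ?_
      rw [trn u₄, trz, show b ≫ c K₁' = y ≫ (a.map u₃).hom by simp [b], trn u₃, Category.assoc,
        show u₃.hom ≫ u₄.hom = 0 from comp_distTriang_mor_zero₃₁ _ hT, comp_zero]
    have hb' : b ≫ Φ.map T.rotate.rotate.mor₂ = 0 := by
      refine (congrArg (b ≫ ·) (Φ.map_neg (f := T.mor₁⟦(1 : ℤ)⟧'))).trans ?_
      exact (Preadditive.comp_neg _ _).trans (neg_eq_zero.2 hb)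
    obtain ⟨x₀, hx₀⟩ := exists_lift_mid Φ T.rotate.rotate (rot_of_distTriang _ (rot_of_distTriang _ hT)) b hb'
    change x₀ ≫ Φ.map T.mor₃ = b at hx₀
    let x₁ : P ⟶ (mq f (a.obj O) K₃).obj := x₀
    have hd : (tr K₃ y - tr K₃ (x₁ ≫ c K₃)) ≫ T.mor₃ = 0 := by
      rw [Preadditive.sub_comp, show tr K₃ y ≫ T.mor₃ = tr K₁' (y ≫ (a.map u₃).hom) from (trn u₃ y).symm,
        show tr K₃ (x₁ ≫ c K₃) ≫ T.mor₃ = tr K₁' ((x₁ ≫ c K₃) ≫ (a.map u₃).hom) from (trn u₃ _).symm,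
        ← nat u₃ x₁, show x₁ ≫ Φ.map u₃.hom = b from hx₀, show b ≫ c K₁' = y ≫ (a.map u₃).hom by simp [b], sub_self]
    obtain ⟨s, hs⟩ := Triangle.coyoneda_exact₃ _ hT _ hd
    obtain ⟨s', hs'⟩ : ∃ s' : P ⟶ (a.obj K₂).obj, tr K₂ s' = s :=
      ⟨(adj.homEquiv Pq K₂ (ObjectProperty.homMk s)).hom,
        congrArg (fun t => t.hom) ((adj.homEquiv Pq K₂).symm_apply_apply (ObjectProperty.homMk s))⟩
    let x₂ : P ⟶ (mq f (a.obj O) K₃).obj := (s' ≫ inv (c K₂)) ≫ Φ.map u₂.hom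
    refine ⟨x₁ + x₂, trinj K₃ ?_⟩
    show tr K₃ ((x₁ + x₂) ≫ c K₃) = _
    rw [Preadditive.add_comp, show x₂ ≫ c K₃ = s' ≫ (a.map u₂).hom from (nat u₂ _).trans (by
      rw [Category.assoc s', IsIso.inv_hom_id, Category.comp_id])]
    have tradd : ∀ (v v' : P ⟶ (a.obj K₃).obj), tr K₃ (v + v') = tr K₃ v + tr K₃ v' := fun v v' => by
      haveI := additive_rpush (f := f)
      haveI : (DCoh.RpushQ f hf).Additive := { map_add := fun {A B u v} => ObjectProperty.hom_ext _ ((DCoh.Rpush f).map_add) }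
      show ((adj.homEquiv Pq K₃).symm (ObjectProperty.homMk v + ObjectProperty.homMk v')).hom = _
      rw [Adjunction.homEquiv_counit, Functor.map_add, Preadditive.add_comp]
      simp only [tr, Adjunction.homEquiv_counit]
      rfl
    rw [tradd, trn u₂, hs']
    exact (congrArg (tr K₃ (x₁ ≫ c K₃) + ·) hs.symm).trans (add_sub_cancel _ _)

/-- Good in all shifts. -/
def GoodS (L : DCoh.D Y) : Prop := ∀ n : ℤ, Good adj O eO (L⟦n⟧)

theorem goodS_cone (T : Triangle (DCoh.D Y)) (hT : T ∈ distTriang _) (h₁ : GoodS adj O eO T.obj₁)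
    (h₂ : GoodS adj O eO T.obj₂) : GoodS adj O eO T.obj₃ := fun n =>
  good_cone adj O eO _ (Triangle.shift_distinguished T hT n) (h₁ n) (h₂ n)
    (good_iso adj O eO ((shiftFunctorAdd' (DCoh.D Y) n 1 (n + 1) rfl).app T.obj₁) (h₁ (n + 1)))
    (good_iso adj O eO ((shiftFunctorAdd' (DCoh.D Y) n 1 (n + 1) rfl).app T.obj₂) (h₂ (n + 1)))

theorem good_sigma (hcop : ∀ J : Type u, PreservesColimitsOfShape (Discrete J) a) {J : Type u} (L : J → DCoh.D Y)
    [HasCoproduct L] (h : ∀ j, Good adj O eO (L j)) : Good adj O eO (∐ L) := by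
  let K : J → DCoh.DQCoh Y := fun j => ⟨L j, (h j).choose⟩
  let S : DCoh.DQCoh Y := ⟨∐ L, DPerf.isQCohD_sigma _ fun j => (h j).choose⟩
  refine ⟨S.property, ?_⟩
  let Φ := midF f (a.obj O).obj
  let Ad := fun j => (a.obj (K j)).obj
  haveI := DPush.hasCoproduct_D Ad
  haveI := DPush.hasCoproduct_D fun j => Φ.obj (L j)
  haveI := fun j => (h j).choose_spec
  let c : Cofan K := Cofan.mk S fun j => ObjectProperty.homMk (Sigma.ι L j)
  have hc : IsColimit c := Cofan.IsColimit.mk _ (fun s => ObjectProperty.homMk (Sigma.desc fun j => (s.inj j).hom))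
    (fun s j => ObjectProperty.hom_ext _ (Sigma.ι_desc _ _))
    (fun s m hm => ObjectProperty.hom_ext _ (Sigma.hom_ext _ _ fun j => by
      rw [ObjectProperty.homMk_hom, Sigma.ι_desc]
      exact congrArg (fun t => t.hom) (hm j)))
  let A' : DCoh.DQCoh X := ⟨∐ Ad, DPerf.isQCohD_sigma _ fun j => (a.obj (K j)).property⟩
  let d : Cofan (fun j => a.obj (K j)) := Cofan.mk A' fun j => ObjectProperty.homMk (Sigma.ι Ad j)
  have hd : IsColimit d := Cofan.IsColimit.mk _ (fun s => ObjectProperty.homMk (Sigma.desc fun j => (s.inj j).hom))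
    (fun s j => ObjectProperty.hom_ext _ (Sigma.ι_desc _ _))
    (fun s m hm => ObjectProperty.hom_ext _ (Sigma.hom_ext _ _ fun j => by
      rw [ObjectProperty.homMk_hom, Sigma.ι_desc]
      exact congrArg (fun t => t.hom) (hm j)))
  haveI := hcop J
  have hm : IsColimit (Cofan.mk (a.obj S) fun j => a.map (c.inj j) : Cofan fun j => a.obj (K j)) :=
    isColimitMapCoconeCofanMkEquiv a _ _ (isColimitOfPreserves a hc)
  let e := hd.coconePointUniqueUpToIso hm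
  let w : (∐ Ad) ⟶ (a.obj S).obj := e.hom.hom
  haveI : IsIso w := ((ObjectProperty.ι _).mapIso e).isIso_hom
  have hw : ∀ j, Sigma.ι Ad j ≫ w = (a.map (c.inj j)).hom := fun j =>
    congrArg (fun t => t.hom) (hd.comp_coconePointUniqueUpToIso_hom hm ⟨j⟩)
  let cj : ∀ j, Φ.obj (L j) ⟶ Ad j := fun j => (cmp adj O eO (K j)).hom
  haveI : ∀ j, IsIso (cj j) := fun j => (h j).choose_spec
  let m : (∐ fun j => Φ.obj (L j)) ⟶ ∐ Ad := Limits.Sigma.map cj
  haveI : IsIso m := by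
    refine ⟨Limits.Sigma.map fun j => inv (cj j), Sigma.hom_ext _ _ fun j => ?_,
      Sigma.hom_ext _ _ fun j => ?_⟩ <;> simp [m]
  have hsq : sigmaComparison Φ L ≫ (cmp adj O eO S).hom = m ≫ w := Sigma.hom_ext _ _ fun j => by
    rw [ι_comp_sigmaComparison_assoc, show m = Limits.Sigma.map cj from rfl,
      Sigma.ι_map_assoc, hw]
    exact cmp_natural adj O eO (c.inj j)
  haveI : IsIso (sigmaComparison Φ L) := inferInstance
  haveI : IsIso (sigmaComparison Φ L ≫ (cmp adj O eO S).hom) := hsq ▸ inferInstance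
  exact IsIso.of_isIso_comp_left (sigmaComparison Φ L) (cmp adj O eO S).hom

theorem goodS_all [CompactSpace Y] [QuasiSeparatedSpace Y] (hcop : ∀ J : Type u, PreservesColimitsOfShape (Discrete J) a)
    (M : DCoh.D Y) (hM : DCoh.IsQCohD M) : GoodS adj O eO M := by
  haveI : LocallySmall.{u} (DCoh.D Y) := RHom.locallySmall_derivedCategory Y.Modules
  haveI : ∀ κ : Type u, HasColimitsOfShape (Discrete κ) (DCoh.D Y) := DGen9.hasCoproducts_D Y
  haveI : HasColimitsOfShape (Discrete ℕ) (DCoh.D Y) :=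
    hasColimitsOfShape_of_equivalence (Discrete.equivalence (Equiv.ulift.{u} : ULift.{u} ℕ ≃ ℕ))
  obtain ⟨P, hP, hPq, -, hgen⟩ := DGen9.exists_generator_qcqs Y Set.univ isClosed_univ
    (by rw [Set.compl_univ]; exact isCompact_empty)
  let S : DCoh.D Y → Prop := fun L => DCoh.IsQCohD L ∧ GoodS adj O eO L
  have hiso : ∀ {A B : DCoh.D Y}, (A ≅ B) → S A → S B := fun i h =>
    ⟨DQC.isQCohD_of_iso i h.1, fun n => good_iso adj O eO ((shiftFunctor (DCoh.D Y) n).mapIso i) (h.2 n)⟩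
  have hS : DGen9.CoclosedClass.{u} S := by
    refine ⟨hiso, fun κ L hL => ⟨DPerf.isQCohD_sigma L fun k => (hL k).1, fun n => ?_⟩,
      fun T hT h₁ h₂ => ⟨DPush.isQCohD_obj₃ T hT h₁.1 h₂.1, goodS_cone adj O eO T hT h₁.2 h₂.2⟩⟩
    haveI := DPush.hasCoproduct_D fun k => (L k)⟦n⟧
    exact good_iso adj O eO (asIso (sigmaComparison (shiftFunctor (DCoh.D Y) n) L))
      (good_sigma adj O eO hcop _ fun k => (hL k).2 n)
  have hPS : ∀ n : ℤ, S (P⟦n⟧) := fun n =>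
    ⟨DMV.isQCohD_shift P hPq n, fun k => good_of_isPerfect adj O eO _ (DGen9.isPerfect_shiftD (DGen9.isPerfect_shiftD hP n) k)⟩
  have hfin : ∀ (n : ℤ) (Z : ℕ → DCoh.D Y), (∀ k, S (Z k)) → ∀ g : P⟦n⟧ ⟶ ∐ Z, DPush.FinFac Z g := fun n Z hZ g => by
    let w : (∐ fun i : ULift.{u} ℕ => Z i.down) ⟶ ∐ Z :=
      Sigma.desc fun i => (Iso.refl (Z i.down)).hom ≫ Sigma.ι Z i.down
    let w' : ∐ Z ⟶ ∐ fun i : ULift.{u} ℕ => Z i.down :=
      Sigma.desc fun k => Sigma.ι (fun i : ULift.{u} ℕ => Z i.down) ⟨k⟩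
    have hww : w' ≫ w = 𝟙 _ := Sigma.hom_ext _ _ fun k => by simp [w, w']
    have := RHom.finFac_whisker Z (fun i : ULift.{u} ℕ => Z i.down) Equiv.ulift (fun i => Iso.refl _) _
      (DGen9.qFin_of_isPerfect (DGen9.isPerfect_shiftD hP n) _ _ (fun i : ULift.{u} ℕ => (hZ i.down).1) (g ≫ w'))
    rw [show g = (g ≫ w') ≫ w by rw [Category.assoc, hww, Category.comp_id]]
    exact this
  obtain ⟨N, ε, hN, hb⟩ := DGen9.exists_coloc.{u} P hS hPS hfin
    (fun Q hQ h => (hgen Q hQ.1 (DGen9.suppOn_univ Q)).2 h) M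
  obtain ⟨C, q, r, hT⟩ := distinguished_cocone_triangle ε
  have hz : IsZero C := (hgen C (DPush.isQCohD_obj₃ _ hT hN.1 hM) (DGen9.suppOn_univ C)).2
    (DGen9.eq_zero_of_bijective hT fun n => hb _ (hPS n))
  haveI : IsIso ε := (Triangle.isZero₃_iff_isIso₁ _ hT).1 hz
  exact (hiso (asIso ε) hN).2

theorem isIso_cmp [CompactSpace Y] [QuasiSeparatedSpace Y] (hcop : ∀ J : Type u, PreservesColimitsOfShape (Discrete J) a)
    (K : DCoh.DQCoh Y) : IsIso (cmp adj O eO K).hom :=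
  (good_iso adj O eO ((shiftFunctorZero (DCoh.D Y) ℤ).app K.obj) (goodS_all adj O eO hcop K.obj K.property 0)).choose_spec

include adj eO in
/-- The formula, as an isomorphism of functors. -/
theorem nonempty_formula [CompactSpace Y] [QuasiSeparatedSpace Y] (hcop : ∀ J : Type u, PreservesColimitsOfShape (Discrete J) a) :
    Nonempty (ObjectProperty.ι _ ⋙ midF f (a.obj O).obj ≅ a ⋙ ObjectProperty.ι _) :=
  haveI := isIso_cmp adj O eO hcop
  ⟨NatIso.ofComponents (fun K => asIso (cmp adj O eO K).hom) (fun v => cmp_natural adj O eO v)⟩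

include adj in
/-- The formula with `Lpull` and `LTensorCx`. -/
theorem nonempty_formula' [CompactSpace Y] [QuasiSeparatedSpace Y] (hcop : ∀ J : Type u, PreservesColimitsOfShape (Discrete J) a)
    (hO : Nonempty (O.obj ≅ DCoh.inD Y (Coh.structureModule Y))) [DCoh.HasLpull f]
    (E : CochainComplex X.Modules ℤ) (hE : Nonempty (DCoh.toD X E ≅ (a.obj O).obj)) [DCoh.HasLTensorCx E] :
    Nonempty (a ⋙ ObjectProperty.ι _ ≅ ObjectProperty.ι _ ⋙ DCoh.Lpull f ⋙ DCoh.LTensorCx E) := by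
  obtain ⟨eO'⟩ := hO
  obtain ⟨eE⟩ := hE
  let e₁ : (O.obj : DCoh.D Y) ≅ (qK Y).obj (𝟙_ (KF Y)) :=
    eO' ≪≫ (DerivedCategory.singleFunctorIsoCompQ Y.Modules 0).app (Coh.structureModule Y)
  let eO : (O.obj : DM Y) ≅ 𝟙_ (DM Y) := e₁
  obtain ⟨φ⟩ := nonempty_formula adj O eO hcop
  obtain ⟨P, q, hP, hq⟩ := RHom.exists_kflat_res E
  haveI := hq
  haveI := KFlat.Sch.hasLTensorCx P
  haveI := RHom.isIso_ltMap q
  let P' : KF X := ⟨P, hP⟩
  haveI : DCoh.HasLTensorCx P'.obj := KFlat.Sch.hasLTensorCx _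
  obtain ⟨c⟩ := nonempty_commIso P'
  obtain ⟨n⟩ := nonempty_lpull_natIso_lP f
  let eP : (qM X).obj P' ≅ ((a.obj O).obj : DM X) := (asIso (DerivedCategory.Q.map q) ≪≫ eE :)
  let t : (tensorLeft ((a.obj O).obj : DM X) : DM X ⥤ DM X) ≅ tensorLeft ((qM X).obj P') :=
    (MonoidalCategory.tensoringLeft (DM X)).mapIso eP.symm
  let t' : (tensorLeft ((a.obj O).obj : DM X) : DM X ⥤ DM X) ≅ DCoh.LTensorCx E :=
    t ≪≫ (c ≪≫ theta P' ≪≫ asIso (RHom.ltMap q) :)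
  let m : midF f (a.obj O).obj ≅ DCoh.Lpull f ⋙ DCoh.LTensorCx E :=
    (Functor.isoWhiskerLeft (dPull f) t' ≪≫ Functor.isoWhiskerRight (n.symm :) (DCoh.LTensorCx E) :)
  exact ⟨φ.symm ≪≫ Functor.isoWhiskerLeft (ObjectProperty.ι _) m⟩

end Closure

end Groth.Agent.Dual8

namespace Groth.Agent.Dual8

open DMon9

variable {X Y : Scheme.{u}} {f : X ⟶ Y} [DCoh.HasRpush f] {hf : DCoh.RpushPreservesQCoh f}
  [QuasiCompact f] [QuasiSeparated f] [CompactSpace X] [QuasiSeparatedSpace X]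
  {a : DCoh.DQCoh Y ⥤ DCoh.DQCoh X} (adj : DCoh.RpushQ f hf ⊣ a)

include adj in
/-- `a(K ⊗ L) ≅ Lf^* K ⊗ a(L)` for perfect `K`. -/
theorem nonempty_tensor_perfect [DCoh.HasLpull f] (K L : DCoh.DQCoh Y) (hK : DCoh.IsPerfect K.obj)
    (K' : CochainComplex Y.Modules ℤ) (hK' : Nonempty (DCoh.toD Y K' ≅ K.obj)) [DCoh.HasLTensorCx K']
    (hKL : DCoh.IsQCohD ((DCoh.LTensorCx K').obj L.obj))
    (E : CochainComplex X.Modules ℤ) (hE : Nonempty (DCoh.toD X E ≅ (a.obj L).obj)) [DCoh.HasLTensorCx E] :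
    Nonempty ((a.obj ⟨(DCoh.LTensorCx K').obj L.obj, hKL⟩).obj ≅
      (DCoh.LTensorCx E).obj ((DCoh.Lpull f).obj K.obj)) := by
  obtain ⟨eK⟩ := hK'
  obtain ⟨eE⟩ := hE
  obtain ⟨K₁, ⟨u₁⟩, hu₁⟩ := nonempty_ltensor_iso K'
  obtain ⟨b₁⟩ := hu₁ L.obj
  obtain ⟨E₁, ⟨v₁⟩, hv₁⟩ := nonempty_ltensor_iso E
  haveI : DCoh.HasLTensorCx E₁.obj := KFlat.Sch.hasLTensorCx _
  obtain ⟨c⟩ := nonempty_commIso E₁
  obtain ⟨b₂⟩ := hv₁ ((lP f).obj K.obj)
  obtain ⟨l⟩ := nonempty_lpull_iso_lP f K.obj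
  haveI := isIso_tau_of_isPerfect adj L K hK
  let uM : (qM Y).obj K₁ ≅ (K.obj : DM Y) := (u₁ ≪≫ eK :)
  let LM : DM Y := L.obj
  let eM : (LM ⊗ (qM Y).obj K₁ : DM Y) ≅ LM ⊗ (K.obj : DM Y) := whiskerLeftIso LM uM
  let w : (⟨(DCoh.LTensorCx K').obj L.obj, hKL⟩ : DCoh.DQCoh Y) ≅ tq L K := ObjectProperty.isoMk _ (b₁ ≪≫ eM :)
  let PK : DM X := (dPull f).obj (K.obj : DM Y)
  let vM : (qM X).obj E₁ ≅ ((a.obj L).obj : DM X) := (v₁ ≪≫ eE :)
  let wM : ((qM X).obj E₁ ⊗ PK : DM X) ≅ ((a.obj L).obj : DM X) ⊗ PK := whiskerRightIso vM PK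
  exact ⟨(ObjectProperty.ι _).mapIso (a.mapIso w) ≪≫ (asIso (tau adj L K).hom).symm ≪≫
    ((wM.symm :) ≪≫ c.app ((lP f).obj K.obj) ≪≫ b₂.symm ≪≫ (DCoh.LTensorCx E).mapIso l.symm :)⟩

end Groth.Agent.Dual8
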