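import Groth.Agent.Lib.DMon9.ProjQC
import Groth.Agent.Lib.RHom.DualPerf
import Groth.Agent.Lib.RHom.Compact
import Groth.Agent.Lib.DGen9.Basics

/-!
Perfect objects have duals on both sides; images of exact pairings.
-/

set_option autoImplicit false
set_option linter.unusedSectionVars false
set_option linter.style.haveILetI false
set_option backward.isDefEq.respectTransparency false
set_option backward.isDefEq.respectTransparency.types false
set_option maxHeartbeats 800000

universe u

open CategoryTheory CategoryTheory.Limits MonoidalCategory AlgebraicGeometry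

attribute [local instance] HasDerivedCategory.standard

namespace Groth.Agent.Dual8

/-- The image of an exact pairing. -/
noncomputable abbrev mapPairing {C D : Type*} [Category* C] [Category* D] [MonoidalCategory C] [MonoidalCategory D]
    (F : C ⥤ D) [F.Monoidal] (K K' : C) [ExactPairing K K'] : ExactPairing (F.obj K) (F.obj K') where
  coevaluation' := Functor.LaxMonoidal.ε F ≫ F.map (η_ K K') ≫ Functor.OplaxMonoidal.δ F K K'
  evaluation' := Functor.LaxMonoidal.μ F K' K ≫ F.map (ε_ K K') ≫ Functor.OplaxMonoidal.η F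
  coevaluation_evaluation' := by
    calc _ = F.obj K' ◁ Functor.LaxMonoidal.ε F ≫ Functor.LaxMonoidal.μ F K' (𝟙_ C) ≫ F.map (K' ◁ η_ K K' ≫ (α_ K' K K').inv ≫ ε_ K K' ▷ K') ≫
          Functor.OplaxMonoidal.δ F (𝟙_ C) K' ≫ Functor.OplaxMonoidal.η F ▷ F.obj K' := by
          rw [Functor.Monoidal.map_associator_inv']
          simp only [MonoidalCategory.whiskerLeft_comp, MonoidalCategory.comp_whiskerRight, Category.assoc,
            Functor.Monoidal.whiskerLeft_δ_μ_assoc, Functor.Monoidal.whiskerRight_δ_μ_assoc,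
            Functor.map_comp, Functor.LaxMonoidal.μ_natural_right_assoc,
            Functor.OplaxMonoidal.δ_natural_left_assoc]
      _ = _ := by
          rw [ExactPairing.coevaluation_evaluation]
          simp
  evaluation_coevaluation' := by
    calc _ = Functor.LaxMonoidal.ε F ▷ F.obj K ≫ Functor.LaxMonoidal.μ F (𝟙_ C) K ≫ F.map (η_ K K' ▷ K ≫ (α_ K K' K).hom ≫ K ◁ ε_ K K') ≫
          Functor.OplaxMonoidal.δ F K (𝟙_ C) ≫ F.obj K ◁ Functor.OplaxMonoidal.η F := by
          rw [Functor.Monoidal.map_associator']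
          simp only [MonoidalCategory.whiskerLeft_comp, MonoidalCategory.comp_whiskerRight, Category.assoc,
            Functor.Monoidal.whiskerLeft_δ_μ_assoc, Functor.Monoidal.whiskerRight_δ_μ_assoc,
            Functor.map_comp, Functor.LaxMonoidal.μ_natural_left_assoc,
            Functor.OplaxMonoidal.δ_natural_right_assoc]
      _ = _ := by
          rw [ExactPairing.evaluation_coevaluation]
          simp

open DMon9 KFlat KFlat.Sch

variable {X : Scheme.{u}}

/-- A perfect object is the right dual of a perfect object. -/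
theorem exists_pairing (A : DM X) (hA : DCoh.IsPerfect (A : DCoh.D X)) :
    ∃ D : DM X, DCoh.IsPerfect (D : DCoh.D X) ∧ Nonempty (ExactPairing D A) := by
  obtain ⟨K, ⟨eA⟩⟩ := exists_qM (A : DCoh.D X)
  have hKp : DCoh.IsPerfect (DCoh.toD X K.obj) := DGen9.isPerfect_of_iso eA.symm hA
  haveI := KFlat.Sch.hasLTensorCx K.obj
  haveI : DCoh.HasRSheafHom K.obj := RHom.hasRSheafHom K.obj
  obtain ⟨P', q, hP', hq⟩ := RHom.exists_kflat_res
    (DerivedCategory.Q.objPreimage ((DCoh.RSheafHom K.obj).obj (RHom.oD X)))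
  haveI := hq
  let eD : DerivedCategory.Q.obj P' ≅ (DCoh.RSheafHom K.obj).obj (RHom.oD X) :=
    asIso (DerivedCategory.Q.map q) ≪≫ DerivedCategory.Q.objObjPreimageIso _
  haveI := KFlat.Sch.hasLTensorCx P'
  haveI := RHom.hasRSheafHom P'
  let D₁ : KF X := ⟨P', hP'⟩
  have hDp : DCoh.IsPerfect (DCoh.toD X P') := DGen9.isPerfect_of_iso eD.symm (RHom.isPerfect_dual K.obj hKp)
  obtain ⟨b⟩ := nonempty_bidualIso K.obj P' K.property hP' hKp eD
  haveI : IsIso ((RHom.ltCounit K.obj).app (RHom.sg 0 (Coh.structureModule X))) :=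
    RHom.isIso_counit_kflat K.obj _ (RHom.isKFlat_sgOne 0)
  let eK : DerivedCategory.Q.obj K.obj ≅ (DCoh.RSheafHom P').obj (RHom.oD X) :=
    (asIso ((RHom.ltCounit K.obj).app (RHom.sg 0 (Coh.structureModule X))) ≪≫
      DerivedCategory.Q.mapIso (RHom.lunit.app K.obj)).symm ≪≫ (b.app _).symm
  obtain ⟨e, he⟩ := RHom.exists_pairing hP' eK
  obtain ⟨p⟩ := exactPairing_of_isIso (K := D₁) (D := K) e (RHom.isIso_phi e hP' hDp he)
  haveI := p
  let eA' : (qM X).obj K ≅ A := eA
  exact ⟨(qM X).obj D₁, hDp, ⟨exactPairingCongr (Iso.refl _) eA'.symm⟩⟩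

end Groth.Agent.Dual8
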