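import Groth.Agent.Lib.Dual8.Pairing
import Groth.Agent.Lib.AmpleRes8.PerfTest
import Groth.Prelude.Def_Dual3

/-!
`Lf^* K ⊗ a(A) ≅ a(A ⊗ K)` for perfect `K`.
-/

set_option autoImplicit false
set_option linter.unusedSectionVars false
set_option linter.style.haveILetI false
set_option backward.isDefEq.respectTransparency false
set_option backward.isDefEq.respectTransparency.types false
set_option maxHeartbeats 800000

universe u

open CategoryTheory CategoryTheory.Limits MonoidalCategory AlgebraicGeometry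

attribute [local instance] HasDerivedCategory.standard

namespace Groth.Agent.Dual8

open DMon9

section Formal

variable {C D : Type*} [Category* C] [Category* D] [MonoidalCategory C] [MonoidalCategory D]
  {L : C ⥤ D} [L.Monoidal] {R : D ⥤ C} (adj : L ⊣ R)

open Functor.LaxMonoidal Functor.OplaxMonoidal

/-- The key compatibility of the projection map with a pairing. -/
theorem proj_pairing {P E : D} {A K' K : C} [ExactPairing K' K] (x : P ⟶ E ⊗ L.obj K) (ε' : R.obj E ⟶ A)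
    (g : R.obj (E ⊗ L.obj K) ⟶ R.obj E ⊗ K) (hg : g ≫ projApp adj E K = 𝟙 _) (hg' : projApp adj E K ≫ g = 𝟙 _) :
    projApp adj P K' ≫ R.map (x ▷ L.obj K' ≫ (α_ E (L.obj K) (L.obj K')).hom ≫
        E ◁ (μ L K K' ≫ L.map (ε_ K' K) ≫ η L) ≫ (ρ_ E).hom) ≫ ε' =
      (R.map x ≫ g ≫ ε' ▷ K) ▷ K' ≫ (α_ A K K').hom ≫ A ◁ ε_ K' K ≫ (ρ_ A).hom := by
  have h1 : projApp adj E (K ⊗ K') ≫ R.map (E ◁ L.map (ε_ K' K) ≫ E ◁ η L ≫ (ρ_ E).hom) =
      R.obj E ◁ ε_ K' K ≫ (ρ_ (R.obj E)).hom := by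
    rw [← projApp_unit adj E, ← Category.assoc (R.obj E ◁ ε_ K' K), projApp_natural, R.map_comp, R.map_comp,
      Category.assoc]
  have h2 : projApp adj (E ⊗ L.obj K) K' ≫ R.map ((α_ E (L.obj K) (L.obj K')).hom ≫ E ◁ μ L K K') =
      g ▷ K' ≫ (α_ (R.obj E) K K').hom ≫ projApp adj E (K ⊗ K') := by
    rw [projApp_tensor, Iso.hom_inv_id_assoc, ← comp_whiskerRight_assoc, hg, id_whiskerRight, Category.id_comp]
  have h3 : projApp adj (E ⊗ L.obj K) K' ≫ R.map ((α_ E (L.obj K) (L.obj K')).hom ≫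
        E ◁ (μ L K K' ≫ L.map (ε_ K' K) ≫ η L) ≫ (ρ_ E).hom) =
      g ▷ K' ≫ (α_ (R.obj E) K K').hom ≫ R.obj E ◁ ε_ K' K ≫ (ρ_ (R.obj E)).hom := by
    rw [← h1, ← Category.assoc (α_ (R.obj E) K K').hom, ← Category.assoc (g ▷ K'), ← h2, Category.assoc, ← R.map_comp]
    simp only [whiskerLeft_comp, Category.assoc]
  rw [R.map_comp, ← Category.assoc, ← Category.assoc, ← projApp_natural_left, Category.assoc, Category.assoc,
    ← Category.assoc (projApp adj (E ⊗ L.obj K) K'), h3]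
  simp only [comp_whiskerRight, Category.assoc]
  rw [← rightUnitor_naturality, whisker_exchange_assoc, associator_naturality_left_assoc]

end Formal

open KFlat KFlat.Sch

variable {X Y : Scheme.{u}} {f : X ⟶ Y} [DCoh.HasRpush f] {hf : DCoh.RpushPreservesQCoh f}
  {a : DCoh.DQCoh Y ⥤ DCoh.DQCoh X} (adj : DCoh.RpushQ f hf ⊣ a)

/-- `A ⊗ K` in `D_QCoh`. -/
noncomputable abbrev tq (A K : DCoh.DQCoh Y) : DCoh.DQCoh Y :=
  ⟨((A.obj : DM Y) ⊗ (K.obj : DM Y) : DM Y), isQCohD_tensor (A := (A.obj : DM Y)) (B := (K.obj : DM Y)) A.property K.property⟩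

/-- `a(A) ⊗ Lf^* K` in `D_QCoh`. -/
noncomputable abbrev mq (f : X ⟶ Y) (E : DCoh.DQCoh X) (K : DCoh.DQCoh Y) : DCoh.DQCoh X :=
  ⟨((E.obj : DM X) ⊗ (dPull f).obj (K.obj : DM Y) : DM X),
    isQCohD_tensor (A := (E.obj : DM X)) (B := (dPull f).obj (K.obj : DM Y)) E.property (isQCohD_lP f K.property)⟩

variable [QuasiCompact f] [QuasiSeparated f]

/-- The inverse of the projection map. -/
noncomputable def projInv (E : DCoh.DQCoh X) (K : DCoh.DQCoh Y) :
    (rM f).obj (mq f E K).obj ⟶ ((rM f).obj E.obj ⊗ (K.obj : DM Y) : DM Y) :=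
  haveI : IsIso (projApp (adjM f) (E.obj : DM X) (K.obj : DM Y)) := isIso_projT f E.obj E.property K.obj K.property
  inv (projApp (adjM f) (E.obj : DM X) (K.obj : DM Y))

theorem projInv_projApp (E : DCoh.DQCoh X) (K : DCoh.DQCoh Y) :
    projInv E K ≫ projApp (adjM f) (E.obj : DM X) (K.obj : DM Y) = 𝟙 _ ∧
      projApp (adjM f) (E.obj : DM X) (K.obj : DM Y) ≫ projInv E K = 𝟙 _ := by
  haveI : IsIso (projApp (adjM f) (E.obj : DM X) (K.obj : DM Y)) := isIso_projT f E.obj E.property K.obj K.property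
  exact ⟨IsIso.inv_hom_id _, IsIso.hom_inv_id _⟩

/-- The counit, monoidally typed. -/
noncomputable abbrev epsA (A : DCoh.DQCoh Y) : (rM f).obj (a.obj A).obj ⟶ (A.obj : DM Y) := (adj.counit.app A).hom

/-- The comparison. -/
noncomputable def tau (A K : DCoh.DQCoh Y) : mq f (a.obj A) K ⟶ a.obj (tq A K) :=
  adj.homEquiv _ _ (ObjectProperty.homMk (projInv (a.obj A) K ≫ epsA adj A ▷ (K.obj : DM Y)))

theorem bijective_tau (A K : DCoh.DQCoh Y) (hK : DCoh.IsPerfect K.obj) (P : DCoh.D X) (hP : DCoh.IsPerfect P) :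
    Function.Bijective fun x : P ⟶ (mq f (a.obj A) K).obj => x ≫ (tau adj A K).hom := by
  obtain ⟨D, hD, ⟨p⟩⟩ := exists_pairing (K.obj : DM Y) hK
  haveI := p
  letI : ExactPairing ((dPull f).obj D) ((dPull f).obj (K.obj : DM Y)) := mapPairing (dPull f) D (K.obj : DM Y)
  let Pq : DCoh.DQCoh X := ⟨P, DGen9.isQCohD_of_isPerfect hP⟩
  let Dq : DCoh.DQCoh Y := ⟨D, DGen9.isQCohD_of_isPerfect hD⟩
  let E := (a.obj A).obj
  -- the composite of `x ↦ x ≫ τ` with the adjunction and the pairing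
  let Ψ : (P ⟶ (mq f (a.obj A) K).obj) → ((rM f).obj P ⟶ ((A.obj : DM Y) ⊗ (K.obj : DM Y) : DM Y)) :=
    fun x => (rM f).map x ≫ projInv (a.obj A) K ≫ epsA adj A ▷ (K.obj : DM Y)
  have hΨ : (fun x : P ⟶ (mq f (a.obj A) K).obj => x ≫ (tau adj A K).hom) =
      (fun z : (rM f).obj P ⟶ ((A.obj : DM Y) ⊗ (K.obj : DM Y) : DM Y) =>
        ((adj.homEquiv Pq (tq A K)) (ObjectProperty.homMk z)).hom) ∘ Ψ := funext fun x => by
    have h := adj.homEquiv_naturality_left (X' := Pq) (ObjectProperty.homMk x)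
      (ObjectProperty.homMk (projInv (a.obj A) K ≫ epsA adj A ▷ (K.obj : DM Y)) :
        (DCoh.RpushQ f hf).obj (mq f (a.obj A) K) ⟶ tq A K)
    exact (congrArg (fun t => t.hom) h).symm
  rw [hΨ]
  refine Function.Bijective.comp ⟨fun z z' h => ?_, fun y => ⟨((adj.homEquiv Pq (tq A K)).symm
    (ObjectProperty.homMk y)).hom, ?_⟩⟩ ?_
  · have := (adj.homEquiv Pq (tq A K)).injective (ObjectProperty.hom_ext _ h)
    exact congrArg (fun t => t.hom) this
  · exact congrArg (fun t => t.hom) ((adj.homEquiv Pq (tq A K)).apply_symm_apply (ObjectProperty.homMk y))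
  let U := (tensorRightHomEquiv ((rM f).obj P : DM Y) D (K.obj : DM Y) (A.obj : DM Y)).symm
  let PM : DM X := P
  let EM : DM X := (a.obj A).obj
  let WM := (tensorRightHomEquiv PM ((dPull f).obj D) ((dPull f).obj (K.obj : DM Y)) EM).symm
  have key : U ∘ Ψ = (fun w : (PM ⊗ (dPull f).obj D : DM X) ⟶ EM =>
      projApp (adjM f) PM D ≫ (rM f).map w ≫ epsA adj A) ∘ WM :=
    funext fun x => by
      let xM : PM ⟶ EM ⊗ (dPull f).obj (K.obj : DM Y) := x
      have hW : WM x = xM ▷ (dPull f).obj D ≫ (α_ EM ((dPull f).obj (K.obj : DM Y)) ((dPull f).obj D)).hom ≫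
          EM ◁ (ε_ ((dPull f).obj D) ((dPull f).obj (K.obj : DM Y))) ≫ (ρ_ EM).hom := rfl
      rw [Function.comp_apply, Function.comp_apply, hW]
      have hev : ε_ ((dPull f).obj D) ((dPull f).obj (K.obj : DM Y)) =
          Functor.LaxMonoidal.μ (dPull f) (K.obj : DM Y) D ≫ (dPull f).map (ε_ D (K.obj : DM Y)) ≫
            Functor.OplaxMonoidal.η (dPull f) := by rfl
      rw [hev]
      refine Eq.trans ?_ (proj_pairing (adjM f) (P := PM) (E := EM) (A := (A.obj : DM Y)) (K' := D) (K := (K.obj : DM Y)) xM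
        (epsA adj A) (projInv (a.obj A) K) (projInv_projApp _ _).1 (projInv_projApp _ _).2).symm
      rfl
  have hmid : Function.Bijective fun w : (PM ⊗ (dPull f).obj D : DM X) ⟶ EM =>
      projApp (adjM f) PM D ≫ (rM f).map w ≫ epsA adj A := by
    haveI : IsIso (projApp (adjM f) PM D) := isIso_projT f P Pq.property D Dq.property
    let M : DCoh.DQCoh X := mq f Pq Dq
    have h : Function.Bijective fun w : M.obj ⟶ (a.obj A).obj => (rM f).map w ≫ epsA adj A := by
      refine ⟨fun w w' hw => ?_, fun y => ⟨(adj.homEquiv M A (ObjectProperty.homMk y)).hom, ?_⟩⟩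
      · have h2 : (adj.homEquiv M A).symm (ObjectProperty.homMk w) = (adj.homEquiv M A).symm (ObjectProperty.homMk w') := by
          rw [Adjunction.homEquiv_counit, Adjunction.homEquiv_counit]
          exact ObjectProperty.hom_ext _ hw
        exact congrArg (fun t => t.hom) ((adj.homEquiv M A).symm.injective h2)
      · have h2 := (adj.homEquiv M A).symm_apply_apply (ObjectProperty.homMk y)
        rw [Adjunction.homEquiv_counit] at h2
        exact congrArg (fun t => t.hom) h2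
    exact (asIso (projApp (adjM f) PM D)).symm.homFromEquiv.bijective.comp h
  have hb : Function.Bijective (U ∘ Ψ) := key ▸ hmid.comp (Equiv.bijective _)
  exact (U.bijective.of_comp_iff' Ψ).1 hb

variable [CompactSpace X] [QuasiSeparatedSpace X]

theorem isIso_tau_of_isPerfect (A K : DCoh.DQCoh Y) (hK : DCoh.IsPerfect K.obj) : IsIso (tau adj A K).hom :=
  PerfTest8.isIso_of_bijective (mq f (a.obj A) K).property (a.obj (tq A K)).property _
    (fun P hP => bijective_tau adj A K hK P hP)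

end Groth.Agent.Dual8
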